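import Cfsg.Agent.H805.PU.Main
import Cfsg.Agent.H802.FusGroup
import Cfsg.Agent.H759.FusNormal

/-!
# The fusion system of a finite group on its Sylow subgroup, read on an isomorphic group
-/

set_option autoImplicit false

namespace Cfsg.Agent.H772.G2

open Cfsg Cfsg.FusionSystem Cfsg.Agent.H759 Cfsg.Agent.H802

universe u

section

variable {G Ω : Type u} [Group G] [Group Ω] {p : ℕ}

/-- conjugation by `g`, read through `e` -/
theorem exists_hom (T : Sylow p G) (e : (T : Subgroup G) ≃* Ω) (P : Subgroup Ω) (g : G)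
    (h : ∀ u : P, g * ((e.symm u : (T : Subgroup G)) : G) * g⁻¹ ∈ (T : Subgroup G)) :
    ∃ φ : P →* Ω, ∀ u : P, ((e.symm (φ u) : (T : Subgroup G)) : G) = g * ((e.symm u : (T : Subgroup G)) : G) * g⁻¹ := by
  refine ⟨{ toFun := fun u => e ⟨_, h u⟩
            map_one' := ?_
            map_mul' := fun a b => ?_ }, fun u => ?_⟩
  · rw [← map_one e]
    congr 1
    apply Subtype.ext
    simp
  · rw [← map_mul e]
    congr 1
    apply Subtype.ext
    simp
  · show ((e.symm (e ⟨_, h u⟩) : (T : Subgroup G)) : G) = _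
    rw [e.symm_apply_apply]

/-- the subgroup of `G` corresponding to `P` -/
def QGen (T : Sylow p G) (e : (T : Subgroup G) ≃* Ω) (P : Subgroup Ω) : Subgroup G :=
  (P.comap e.toMonoidHom).map (T : Subgroup G).subtype

/-- the system of `G` on `Ω` -/
theorem exists_group_system [Finite G] [Fact p.Prime] (T : Sylow p G) (e : (T : Subgroup G) ≃* Ω) :
    ∃ F : FusionSystem (⊤ : Subgroup Ω), F.IsSaturated p ∧ F.IsRealizable p ∧
      (∀ (P : Subgroup Ω) (φ : P →* Ω), φ ∈ F.Hom P ↔
        ∃ g : G, ∀ u : P, ((e.symm (φ u) : (T : Subgroup G)) : G) = g * ((e.symm u : (T : Subgroup G)) : G) * g⁻¹) ∧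
      ∀ P : Subgroup Ω, Nat.card (F.autGroup P) =
        (Subgroup.centralizer (QGen T e P : Set G)).relIndex (Subgroup.normalizer (QGen T e P : Set G)) := by
  let f : Ω →* G := (T : Subgroup G).subtype.comp e.symm.toMonoidHom
  have hf : Function.Injective f := (Subgroup.subtype_injective _).comp e.symm.injective
  have hS : (T : Subgroup G) = (⊤ : Subgroup Ω).map f := by
    ext x
    constructor
    · intro hx
      refine ⟨e ⟨x, hx⟩, Subgroup.mem_top _, ?_⟩
      show ((e.symm (e ⟨x, hx⟩) : (T : Subgroup G)) : G) = x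
      rw [e.symm_apply_apply]
    · rintro ⟨y, -, rfl⟩
      exact (e.symm y).2
  have : Finite Ω := Finite.of_equiv _ e.toEquiv
  obtain ⟨F, hF⟩ := exists_pull' (hf := hf) hS (groupFusionSystem (T : Subgroup G))
  have hom : ∀ (P : Subgroup Ω) (φ : P →* Ω), φ ∈ F.Hom P ↔
      ∃ g : G, ∀ u : P, ((e.symm (φ u) : (T : Subgroup G)) : G) = g * ((e.symm u : (T : Subgroup G)) : G) * g⁻¹ := by
    intro P φ
    rw [← hF.hom P φ]
    constructor
    · rintro ⟨-, -, g, hg⟩
      refine ⟨g, fun u => ?_⟩
      have h1 := hg (eqv hf P u)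
      rw [cb_eqv] at h1
      exact h1
    · rintro ⟨g, hg⟩
      refine ⟨?_, ?_, g, ?_⟩
      · rintro _ ⟨y, -, rfl⟩
        exact (e.symm y).2
      · intro y
        obtain ⟨x, rfl⟩ := (eqv hf P).surjective y
        rw [cb_eqv]
        exact (e.symm (φ x)).2
      · intro y
        obtain ⟨x, rfl⟩ := (eqv hf P).surjective y
        rw [cb_eqv]
        exact hg x
  refine ⟨F, hF.isSaturated_iff.1 (groupFusionSystem_isSaturated T), ?_, hom, ?_⟩
  · refine ⟨G, inferInstance, inferInstance, f.comp (⊤ : Subgroup Ω).subtype, ⟨hf.comp (Subgroup.subtype_injective _), ?_⟩,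
      T, ?_⟩
    · intro P hP φ hφ
      exact hom P φ
    · rw [hS]
      ext x
      constructor
      · rintro ⟨y, hy, rfl⟩
        exact ⟨⟨y, hy⟩, rfl⟩
      · rintro ⟨y, rfl⟩
        exact ⟨y, y.2, rfl⟩
  · intro P
    have hQ : QGen T e P = P.map f := by
      ext x
      constructor
      · rintro ⟨y, hy, rfl⟩
        refine ⟨e y, hy, ?_⟩
        show ((e.symm (e y) : (T : Subgroup G)) : G) = y
        rw [e.symm_apply_apply]
      · rintro ⟨y, hy, rfl⟩
        refine ⟨e.symm y, ?_, rfl⟩
        show e (e.symm y) ∈ P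
        rw [e.apply_symm_apply]
        exact hy
    have hPT : P.map f ≤ (T : Subgroup G) := by
      rintro _ ⟨y, -, rfl⟩
      exact (e.symm y).2
    have h1 : Nat.card (F.autGroup P) = Nat.card ((groupFusionSystem (T : Subgroup G)).autGroup (P.map f)) := by
      rw [hF.autGroup_eq]
      exact Nat.card_congr ((F.autGroup P).equivMapOfInjective _ (ca hf P).injective).toEquiv
    rw [h1, groupFusionSystem_eq, fs_autGroup le_top hPT, hQ]
    have h2 := card_autInducedBy_mul (⊤ : Subgroup G) (P.map f)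
    have h3 : normalizerIn (⊤ : Subgroup G) (P.map f) = Subgroup.normalizer ((P.map f : Subgroup G) : Set G) := top_inf_eq _
    have h4 : centralizerIn (⊤ : Subgroup G) (P.map f) = Subgroup.centralizer ((P.map f : Subgroup G) : Set G) :=
      top_inf_eq _
    rw [h3, h4] at h2
    have h5 := Subgroup.relIndex_mul_relIndex ⊥ (Subgroup.centralizer ((P.map f : Subgroup G) : Set G))
      (Subgroup.normalizer ((P.map f : Subgroup G) : Set G)) bot_le (Subgroup.centralizer_le_normalizer _)
    rw [Subgroup.relIndex_bot_left, Subgroup.relIndex_bot_left, ← h2, mul_comm] at h5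
    exact (Nat.eq_of_mul_eq_mul_right Nat.card_pos h5).symm

end

end Cfsg.Agent.H772.G2
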