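import Cfsg.Agent.H24.Q5.Fus
import Cfsg.Agent.H772.G2.RowA

/-!
# S5211, block `q = 5`: the systems of the rows are core-free (StRowSys)
-/

set_option autoImplicit false
set_option linter.all false

namespace Cfsg.Agent.H772.G2

open Cfsg Cfsg.FusionSystem Cfsg.Agent.H759 Cfsg.Agent.H802 Cfsg.Agent.H779.G2 Cfsg.Agent.H24.Q5

/-! ### Normal subgroups of `U5` -/

/-- `x_a(1)` -/
def xa : U5 := ⟨1, 0, 0, 0, 0, 0⟩
/-- `x_b(1)` -/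
def xb : U5 := ⟨0, 1, 0, 0, 0, 0⟩

theorem grow {M K1 K2 : Subgroup U5} (l : U5 → ZMod 5) (hadd : ∀ x ∈ K2, ∀ y ∈ K2, l (x * y) = l x + l y)
    (hk : ∀ x ∈ K2, l x = 0 → x ∈ K1) (hK1 : K1 ≤ M) {y : U5} (hyM : y ∈ M) (hyK : y ∈ K2) (hy : l y ≠ 0) :
    K2 ≤ M := by
  intro z hz
  have h1 : l 1 = 0 := by
    have := hadd 1 K2.one_mem 1 K2.one_mem
    rw [mul_one] at this
    have h2 : l 1 + 0 = l 1 + l 1 := by rw [add_zero]; exact this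
    exact (add_left_cancel h2).symm
  have hinv : ∀ x ∈ K2, l x⁻¹ = - l x := by
    intro x hx
    have := hadd x hx x⁻¹ (K2.inv_mem hx)
    rw [mul_inv_cancel, h1] at this
    exact (neg_eq_of_add_eq_zero_right this.symm).symm
  have hpow : ∀ k : ℕ, l (y ^ k) = k * l y := by
    intro k
    induction k with
    | zero => simp [h1]
    | succ k ih => rw [pow_succ, hadd _ (K2.pow_mem hyK k) _ hyK, ih]; push_cast; ring
  obtain ⟨k, hk'⟩ : ∃ k : ℕ, (k : ZMod 5) * l y = l z := by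
    refine ⟨(l z * (l y)⁻¹).val, ?_⟩
    rw [ZMod.natCast_zmod_val, mul_assoc, inv_mul_cancel₀ hy, mul_one]
  have h2 : z * (y ^ k)⁻¹ ∈ K1 := by
    apply hk _ (K2.mul_mem hz (K2.inv_mem (K2.pow_mem hyK k)))
    rw [hadd _ hz _ (K2.inv_mem (K2.pow_mem hyK k)), hinv _ (K2.pow_mem hyK k), hpow, hk', add_neg_cancel]
  have h3 := M.mul_mem (hK1 h2) (M.pow_mem hyM k)
  rwa [inv_mul_cancel_right] at h3

section

variable {N : Subgroup U5} (hn : ∀ x ∈ N, ∀ g : U5, g * x * g⁻¹ ∈ N)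
include hn

theorem com_mem {y : U5} (hy : y ∈ N) (x : U5) : y * x * y⁻¹ * x⁻¹ ∈ N := by
  have h1 := hn y⁻¹ (N.inv_mem hy) x
  have h2 : y * x * y⁻¹ * x⁻¹ = y * (x * y⁻¹ * x⁻¹) := by group
  rw [h2]
  exact N.mul_mem hy h1

theorem Z1_le {y : U5} (hy : y ∈ N) (h : y ∈ Z1 (ZMod 5)) (hf : y.f ≠ 0) : Z1 (ZMod 5) ≤ N := by
  refine grow (K1 := ⊥) (fun x => x.f) ?_ ?_ bot_le hy h hf
  · rintro x ⟨h1, h2, h3, h4, h5⟩ z ⟨k1, k2, k3, k4, k5⟩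
    simp [h1, h2, h3, h4, h5, k1, k2, k3, k4, k5]
  · rintro x ⟨h1, h2, h3, h4, h5⟩ hx
    have hx' : x.f = 0 := hx
    rw [Subgroup.mem_bot]
    ext
    · exact h1
    · exact h2
    · exact h3
    · exact h4
    · exact h5
    · exact hx'

theorem Z2_le {y : U5} (hy : y ∈ N) (h : y ∈ Z2 (ZMod 5)) (he : y.e ≠ 0) : Z2 (ZMod 5) ≤ N := by
  obtain ⟨h1, h2, h3, h4⟩ := h
  have hw := com_mem hn hy xb
  have hZ1 : Z1 (ZMod 5) ≤ N := by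
    refine Z1_le hn hw ⟨?_, ?_, ?_, ?_, ?_⟩ ?_
    · simp [xb, h1]
    · simp [xb, h1, h2]
    · simp [xb, h1, h2, h3]
    · simp [xb, h1, h2, h3, h4]
    · simp [xb, h1, h2, h3, h4]
    · simp [xb, h1, h2, h3, h4]
      intro h
      apply he
      linear_combination -h
  refine grow (K1 := Z1 (ZMod 5)) (fun x => x.e) ?_ ?_ hZ1 hy ⟨h1, h2, h3, h4⟩ he
  · rintro x ⟨h1, h2, h3, h4⟩ z ⟨k1, k2, k3, k4⟩
    simp [h1, h2, h3, h4, k1, k2, k3, k4]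
  · rintro x ⟨h1, h2, h3, h4⟩ hx
    exact ⟨h1, h2, h3, h4, hx⟩

theorem Z3_le {y : U5} (hy : y ∈ N) (h : y ∈ Z3 (ZMod 5)) (hd : y.d ≠ 0) : Z3 (ZMod 5) ≤ N := by
  obtain ⟨h1, h2, h3⟩ := h
  have hw := com_mem hn hy xa
  have h30 : (3 : ZMod 5) ≠ 0 := by decide
  have hZ2 : Z2 (ZMod 5) ≤ N := by
    refine Z2_le hn hw ⟨?_, ?_, ?_, ?_⟩ ?_
    · simp [xa, h1]
    · simp [xa, h1, h2]
    · simp [xa, h1, h2, h3]
    · simp [xa, h1, h2, h3]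
    · simp [xa, h1, h2, h3]
      exact ⟨h30, hd⟩
  refine grow (K1 := Z2 (ZMod 5)) (fun x => x.d) ?_ ?_ hZ2 hy ⟨h1, h2, h3⟩ hd
  · rintro x ⟨h1, h2, h3⟩ z ⟨k1, k2, k3⟩
    simp [h1, h2, h3, k1, k2, k3]
  · rintro x ⟨h1, h2, h3⟩ hx
    exact ⟨h1, h2, h3, hx⟩

theorem Z4_le {y : U5} (hy : y ∈ N) (h : y ∈ Z4 (ZMod 5)) (hc : y.c ≠ 0) : Z4 (ZMod 5) ≤ N := by
  obtain ⟨h1, h2⟩ := h
  have hw := com_mem hn hy xa
  have hZ3 : Z3 (ZMod 5) ≤ N := by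
    refine Z3_le hn hw ⟨?_, ?_, ?_⟩ ?_
    · simp [xa, h1]
    · simp [xa, h1, h2]
    · simp [xa, h1, h2]
    · simp [xa, h1, h2]
      exact ⟨by decide, hc⟩
  refine grow (K1 := Z3 (ZMod 5)) (fun x => x.c) ?_ ?_ hZ3 hy ⟨h1, h2⟩ hc
  · rintro x ⟨h1, h2⟩ z ⟨k1, k2⟩
    simp [h1, h2, k1, k2]
  · rintro x ⟨h1, h2⟩ hx
    exact ⟨h1, h2, hx⟩

theorem A5_le {y : U5} (hy : y ∈ N) (h : y ∈ A5) (hb : y.b ≠ 0) : A5 ≤ N := by
  have h1 : y.a = 0 := h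
  have hw := com_mem hn hy xa
  have hZ4 : Z4 (ZMod 5) ≤ N := by
    refine Z4_le hn hw ⟨?_, ?_⟩ ?_
    · simp [xa, h1]
    · simp [xa, h1]
    · simp [xa, h1]
      exact hb
  refine grow (K1 := Z4 (ZMod 5)) (fun x => x.b) ?_ ?_ hZ4 hy h1 hb
  · intro x h1 z k1
    simp
  · intro x h1 hx
    exact ⟨h1, hx⟩

theorem Z4_le_of_a {y : U5} (hy : y ∈ N) (ha : y.a ≠ 0) : Z4 (ZMod 5) ≤ N := by
  have hw := com_mem hn hy xb
  refine Z4_le hn hw ⟨?_, ?_⟩ ?_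
  · simp [xb]
  · simp [xb]
  · simp [xb]
    intro h
    apply ha
    linear_combination -h

end

/-- (ROW) -/
theorem stRowSys : StRowSys := by
  intro G _ _ T e hL
  obtain ⟨F, sat, real, hom, hcard⟩ := exists_group_system T e
  refine ⟨F, sat, real, ?_, hcard A5⟩
  have hfin : Finite U5 := inferInstance
  have hNn : F.IsNormal F.core := isNormal_core
  generalize F.core = N at hNn
  -- images of elements of `N`
  have ext : ∀ (P : Subgroup U5) (φ : P →* U5), φ ∈ F.Hom P → ∃ ψ : ↥(P ⊔ N) →* U5,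
      (∀ x : P, ψ ⟨x, Subgroup.mem_sup_left x.2⟩ = φ x) ∧ (∀ x (hx : x ∈ N), ψ ⟨x, Subgroup.mem_sup_right hx⟩ ∈ N) ∧
      ∀ y ∈ N, ∃ x, ∃ hx : x ∈ N, ψ ⟨x, Subgroup.mem_sup_right hx⟩ = y := by
    intro P φ hφ
    obtain ⟨ψ, hψ, h1, h2⟩ := hNn.2 P φ hφ
    refine ⟨ψ, h1, ?_, ?_⟩
    · intro x hx
      have : ψ ⟨x, Subgroup.mem_sup_right hx⟩ ∈ (N.subgroupOf (P ⊔ N)).map ψ := ⟨_, hx, rfl⟩
      rwa [h2] at this
    · intro y hy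
      rw [← h2] at hy
      obtain ⟨x, hx, rfl⟩ := hy
      exact ⟨x, hx, rfl⟩
  have clos : ∀ (P : Subgroup U5) (φ : P →* U5), φ ∈ F.Hom P → ∀ x : P, (x : U5) ∈ N → φ x ∈ N := by
    intro P φ hφ x hx
    obtain ⟨ψ, h1, h2, -⟩ := ext P φ hφ
    rw [← h1 x]
    exact h2 x hx
  have closZ : ∀ (P : Subgroup U5) (φ : P →* U5), φ ∈ F.Hom P → ∀ x : P, (x : U5) ∈ N →
      (∀ n ∈ N, (x : U5) * n = n * x) → ∀ n ∈ N, φ x * n = n * φ x := by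
    intro P φ hφ x hx hc n hn
    obtain ⟨ψ, h1, h2, h3⟩ := ext P φ hφ
    obtain ⟨m, hm, rfl⟩ := h3 n hn
    rw [← h1 x, ← map_mul, ← map_mul]
    congr 1
    exact Subtype.ext (hc m hm)
  have hn : ∀ x ∈ N, ∀ g : U5, g * x * g⁻¹ ∈ N := by
    intro x hx g
    exact clos ⊤ _ (F.conj_mem (g := g) le_top (Subgroup.mem_top g)) ⟨x, Subgroup.mem_top x⟩ hx
  -- the morphism of (b)
  obtain ⟨g, x, y, hx, hxy, hy⟩ := hL.b
  have hsy : ∀ z : (T : Subgroup G), e.symm (e z) = z := e.symm_apply_apply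
  obtain ⟨φ, hφ, hφx⟩ : ∃ φ ∈ F.Hom (Subgroup.zpowers (e x)), φ ⟨e x, Subgroup.mem_zpowers _⟩ = e y := by
    obtain ⟨φ, hφ⟩ := exists_hom T e (Subgroup.zpowers (e x)) g (by
      rintro ⟨_, k, rfl⟩
      have h1 : e.symm (e x ^ k) = x ^ k := by rw [map_zpow, hsy]
      show g * ((e.symm (e x ^ k) : (T : Subgroup G)) : G) * g⁻¹ ∈ (T : Subgroup G)
      rw [h1, Subgroup.coe_zpow, ← conj_zpow, ← hxy]
      exact zpow_mem y.2 k)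
    refine ⟨φ, (hom _ _).2 ⟨g, hφ⟩, ?_⟩
    apply e.symm.injective
    apply Subtype.ext
    rw [hφ]
    show g * ((e.symm (e x) : (T : Subgroup G)) : G) * g⁻¹ = ((e.symm (e y) : (T : Subgroup G)) : G)
    rw [hsy, hsy, hxy]
  have hb1 : e x ∈ N → e y ∈ N := fun h => by
    rw [← hφx]
    exact clos _ φ hφ _ h
  have Zc : ∀ z ∈ Z1 (ZMod 5), ∀ u : U5, z * u = u * z := by
    rintro z ⟨h1, h2, h3, h4, h5⟩ u
    ext <;> simp [h1, h2, h3, h4, h5, add_comm]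
  -- the morphisms of (a1), (a2)
  have amor : ∀ g : G, (∀ x : (T : Subgroup G), e x ∈ A5 → ∃ y : (T : Subgroup G), (y : G) = g * x * g⁻¹ ∧ e y ∈ A5) →
      ∃ φ : A5 →* U5, φ ∈ F.Hom A5 ∧ (∀ u, φ u ∈ A5) ∧ ∀ (x y : (T : Subgroup G)) (hx : e x ∈ A5),
        (y : G) = g * x * g⁻¹ → φ ⟨e x, hx⟩ = e y := by
    intro g hg
    have key : ∀ u : A5, ∃ y : (T : Subgroup G), (y : G) = g * ((e.symm u : (T : Subgroup G)) : G) * g⁻¹ ∧ e y ∈ A5 := by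
      intro u
      exact hg (e.symm u) (by rw [e.apply_symm_apply]; exact u.2)
    obtain ⟨φ, hφ⟩ := exists_hom T e A5 g (fun u => by
      obtain ⟨y, hy, -⟩ := key u
      rw [← hy]
      exact y.2)
    refine ⟨φ, (hom _ _).2 ⟨g, hφ⟩, fun u => ?_, fun x y hx hxy => ?_⟩
    · obtain ⟨y, hy, hy'⟩ := key u
      have h1 : φ u = e y := by
        apply e.symm.injective
        apply Subtype.ext
        rw [hφ, hsy, hy]
      rw [h1]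
      exact hy'
    · apply e.symm.injective
      apply Subtype.ext
      rw [hφ]
      show g * ((e.symm (e x) : (T : Subgroup G)) : G) * g⁻¹ = ((e.symm (e y) : (T : Subgroup G)) : G)
      rw [hsy, hsy, hxy]
  obtain ⟨g1, p1, x1, y1, q1, q2, q3⟩ := hL.a1
  obtain ⟨g2, p2, x2, y2, r1, r2, r3⟩ := hL.a2
  have Z2A : Z2 (ZMod 5) ≤ A5 := fun z hz => hz.1
  have Z3A : Z3 (ZMod 5) ≤ A5 := fun z hz => hz.1
  have Z4A : Z4 (ZMod 5) ≤ A5 := fun z hz => hz.1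
  obtain ⟨φ1, m1, m2, m3⟩ := amor g1 p1
  obtain ⟨φ2, n1, n2, n3⟩ := amor g2 p2
  have e1 : φ1 ⟨e x1, Z2A q1⟩ = e y1 := m3 x1 y1 (Z2A q1) q2
  have e2 : φ2 ⟨e x2, Z3A r1⟩ = e y2 := n3 x2 y2 (Z3A r1) r2
  by_contra hbot
  -- first case: `Q_a ≤ N`
  by_cases hA : A5 ≤ N
  · have hxN : e x ∈ N := hA hx.1
    have h1 := closZ _ φ hφ ⟨e x, Subgroup.mem_zpowers _⟩ hxN (fun n _ => Zc _ hx n)
    rw [hφx] at h1
    apply hy
    have h30 : (3 : ZMod 5) ≠ 0 := by decide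
    have t1 := congrArg GU.c (h1 ⟨0, 1, 0, 0, 0, 0⟩ (hA rfl))
    have t2 := congrArg GU.f (h1 ⟨0, 1, 0, 0, 0, 0⟩ (hA rfl))
    have t3 := congrArg GU.f (h1 ⟨0, 0, 1, 0, 0, 0⟩ (hA rfl))
    have t4 := congrArg GU.f (h1 ⟨0, 0, 0, 1, 0, 0⟩ (hA rfl))
    have t5 := congrArg GU.f (h1 ⟨0, 0, 0, 0, 1, 0⟩ (hA rfl))
    generalize e y = w at t1 t2 t3 t4 t5
    have a0 : w.a = 0 := by simpa using t1
    simp [a0] at t2 t3 t4 t5
    exact ⟨a0, by linear_combination t5, t4.resolve_left h30, t3.resolve_left h30, t2⟩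
  have hb0 : ∀ z ∈ N, z.a = 0 → z.b = 0 := by
    intro z hz ha
    by_contra hb
    exact hA (A5_le hn hz ha hb)
  by_cases h4 : Z4 (ZMod 5) ≤ N
  · -- `N ∩ Q_a = Z₄`
    have s1 : ∀ z : Z4 (ZMod 5), φ1 ⟨z, Z4A z.2⟩ ∈ Z4 (ZMod 5) := by
      intro z
      have h5 := clos A5 φ1 m1 ⟨z, Z4A z.2⟩ (h4 z.2)
      have h6 : (φ1 ⟨z, Z4A z.2⟩).a = 0 := m2 _
      exact ⟨h6, hb0 _ h5 h6⟩
    have inj : Function.Injective (fun z : Z4 (ZMod 5) => (⟨φ1 ⟨z, Z4A z.2⟩, s1 z⟩ : Z4 (ZMod 5))) := by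
      intro z z' h
      have h5 : φ1 ⟨z, Z4A z.2⟩ = φ1 ⟨z', Z4A z'.2⟩ := congrArg Subtype.val h
      have h6 := F.injective_of_mem m1 h5
      exact Subtype.ext (congrArg (fun w : A5 => (w : U5)) h6)
    have surj := Finite.injective_iff_surjective.1 inj
    have hcomm : ∀ v ∈ Z4 (ZMod 5), e y1 * v = v * e y1 := by
      intro v hv
      obtain ⟨z, hz⟩ := surj ⟨v, hv⟩
      have hz' : φ1 ⟨z, Z4A z.2⟩ = v := congrArg Subtype.val hz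
      rw [← hz', ← e1, ← map_mul, ← map_mul]
      congr 1
      apply Subtype.ext
      show e x1 * (z : U5) = z * e x1
      obtain ⟨k1, k2, k3, k4⟩ := q1
      obtain ⟨l1, l2⟩ := z.2
      generalize e x1 = w at k1 k2 k3 k4
      generalize (z : U5) = v at l1 l2
      ext <;> simp [k1, k2, k3, k4, l1, l2, add_comm]
    have ha : (e y1).a = 0 := by
      rw [← e1]
      exact m2 _
    have h30 : (3 : ZMod 5) ≠ 0 := by decide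
    have t3 := congrArg GU.f (hcomm ⟨0, 0, 1, 0, 0, 0⟩ ⟨rfl, rfl⟩)
    have t4 := congrArg GU.f (hcomm ⟨0, 0, 0, 1, 0, 0⟩ ⟨rfl, rfl⟩)
    have t5 := congrArg GU.f (hcomm ⟨0, 0, 0, 0, 1, 0⟩ ⟨rfl, rfl⟩)
    apply q3
    generalize e y1 = w at t3 t4 t5 ha
    simp [ha] at t3 t4 t5
    exact ⟨ha, by linear_combination t5, t4.resolve_left h30, t3.resolve_left h30⟩
  have ha0 : ∀ z ∈ N, z.a = 0 := by
    intro z hz
    by_contra ha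
    exact h4 (Z4_le_of_a hn hz ha)
  have hc0 : ∀ z ∈ N, z.c = 0 := by
    intro z hz
    by_contra hc
    exact h4 (Z4_le hn hz ⟨ha0 z hz, hb0 z hz (ha0 z hz)⟩ hc)
  by_cases h3 : Z3 (ZMod 5) ≤ N
  · have h5 := clos A5 φ2 n1 ⟨e x2, Z3A r1⟩ (h3 r1)
    rw [e2] at h5
    exact r3 ⟨ha0 _ h5, hb0 _ h5 (ha0 _ h5), hc0 _ h5⟩
  have hd0 : ∀ z ∈ N, z.d = 0 := by
    intro z hz
    by_contra hd
    exact h3 (Z3_le hn hz ⟨ha0 z hz, hb0 z hz (ha0 z hz), hc0 z hz⟩ hd)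
  by_cases h2 : Z2 (ZMod 5) ≤ N
  · have h5 := clos A5 φ1 m1 ⟨e x1, Z2A q1⟩ (h2 q1)
    rw [e1] at h5
    exact q3 ⟨ha0 _ h5, hb0 _ h5 (ha0 _ h5), hc0 _ h5, hd0 _ h5⟩
  have he0 : ∀ z ∈ N, z.e = 0 := by
    intro z hz
    by_contra he
    exact h2 (Z2_le hn hz ⟨ha0 z hz, hb0 z hz (ha0 z hz), hc0 z hz, hd0 z hz⟩ he)
  obtain ⟨⟨z, hz⟩, hz1⟩ := Subgroup.ne_bot_iff_exists_ne_one.1 hbot
  have hzf : z.f ≠ 0 := by
    intro hf
    apply hz1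
    apply Subtype.ext
    show z = 1
    ext
    · exact ha0 z hz
    · exact hb0 z hz (ha0 z hz)
    · exact hc0 z hz
    · exact hd0 z hz
    · exact he0 z hz
    · exact hf
  have hZ1 : Z1 (ZMod 5) ≤ N :=
    Z1_le hn hz ⟨ha0 z hz, hb0 z hz (ha0 z hz), hc0 z hz, hd0 z hz, he0 z hz⟩ hzf
  have h5 := hb1 (hZ1 hx)
  exact hy ⟨ha0 _ h5, hb0 _ h5 (ha0 _ h5), hc0 _ h5, hd0 _ h5, he0 _ h5⟩

end Cfsg.Agent.H772.G2
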