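import Cfsg.Agent.H24.Q5.Fus
import Cfsg.Agent.H756.PU.AsmGen

/-!
# S5211, block `q = 5`: uniqueness of the good systems with a given order of `Aut_F(Q_a)` (StUniq, StFive)
-/

set_option autoImplicit false

namespace Cfsg.Agent.H772.G2

open Cfsg Cfsg.FusionSystem Cfsg.Agent.H756.PU Cfsg.Agent.H779.G2 Cfsg.Agent.H24.Q5

theorem hypG5 : HypG (ZMod 5) 5 1 := ⟨by norm_num, le_rfl, inferInstance, by simp, inferInstance⟩

/-! ### The torus -/

/-- the map `tor(s,t)` -/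
def torFun (s t : ZMod 5) (g : U5) : U5 :=
  ⟨s * g.a, t * g.b, s * t * g.c, s ^ 2 * t * g.d, s ^ 3 * t * g.e, s ^ 3 * t ^ 2 * g.f⟩

theorem torFun_mul (s t : ZMod 5) (g h : U5) : torFun s t (g * h) = torFun s t g * torFun s t h := by
  ext
  · simp only [torFun, GU.mul_a]; ring
  · simp only [torFun, GU.mul_b]; ring
  · simp only [torFun, GU.mul_c]; ring
  · simp only [torFun, GU.mul_d]; ring
  · simp only [torFun, GU.mul_e]; ring
  · simp only [torFun, GU.mul_f]; ring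

theorem torFun_comp (s t s' t' : ZMod 5) (g : U5) : torFun s t (torFun s' t' g) = torFun (s * s') (t * t') g := by
  ext <;> simp only [torFun] <;> ring

theorem torFun_one (g : U5) : torFun 1 1 g = g := by
  ext <;> simp [torFun]

/-- the torus -/
def torHom : (ZMod 5)ˣ × (ZMod 5)ˣ →* MulAut U5 where
  toFun x :=
    { toFun := torFun x.1 x.2
      invFun := torFun (x.1⁻¹ : (ZMod 5)ˣ) (x.2⁻¹ : (ZMod 5)ˣ)
      left_inv := fun g => by rw [torFun_comp, Units.inv_mul, Units.inv_mul, torFun_one]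
      right_inv := fun g => by rw [torFun_comp, Units.mul_inv, Units.mul_inv, torFun_one]
      map_mul' := torFun_mul _ _ }
  map_one' := by
    apply MulEquiv.ext
    intro g
    exact torFun_one g
  map_mul' x y := by
    apply MulEquiv.ext
    intro g
    exact (torFun_comp _ _ _ _ g).symm

theorem torHom_apply (x : (ZMod 5)ˣ × (ZMod 5)ˣ) (g : U5) : torHom x g = torFun x.1 x.2 g := rfl

theorem isT_torHom (x : (ZMod 5)ˣ × (ZMod 5)ˣ) : IsT (torHom x) x.1 x.2 :=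
  ⟨x.1.ne_zero, x.2.ne_zero, fun _ => rfl, fun _ => rfl, fun _ => rfl, fun _ => rfl, fun _ => rfl, fun _ => rfl⟩

theorem eq_torHom {α : MulAut U5} {s t : ZMod 5} (h : IsT α s t) :
    α = torHom (Units.mk0 s h.ne1, Units.mk0 t h.ne2) := by
  apply MulEquiv.ext
  intro g
  apply GU.ext
  · exact h.a g
  · exact h.b g
  · exact h.c g
  · exact h.d g
  · exact h.e g
  · exact h.f g

theorem torHom_injective : Function.Injective torHom := by
  intro x y h
  have h1 := congrArg (fun α : MulAut U5 => (α ⟨1, 1, 0, 0, 0, 0⟩).a) h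
  have h2 := congrArg (fun α : MulAut U5 => (α ⟨1, 1, 0, 0, 0, 0⟩).b) h
  have h3 : (x.1 : ZMod 5) * 1 = y.1 * 1 := h1
  have h4 : (x.2 : ZMod 5) * 1 = y.2 * 1 := h2
  rw [mul_one, mul_one] at h3 h4
  exact Prod.ext (Units.ext h3) (Units.ext h4)

/-- the subgroup of order `8` of the torus -/
def E8 : Subgroup ((ZMod 5)ˣ × (ZMod 5)ˣ) where
  carrier := {x | x.2 ^ 2 = 1}
  one_mem' := by simp
  mul_mem' := by
    intro x y hx hy
    have hx' : x.2 ^ 2 = 1 := hx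
    have hy' : y.2 ^ 2 = 1 := hy
    show (x.2 * y.2) ^ 2 = 1
    rw [mul_pow, hx', hy', one_mul]
  inv_mem' := by
    intro x hx
    have hx' : x.2 ^ 2 = 1 := hx
    show (x.2⁻¹) ^ 2 = 1
    rw [inv_pow, hx', inv_one]

instance : DecidablePred (· ∈ E8) := fun x => inferInstanceAs (Decidable (x.2 ^ 2 = 1))

theorem card_E8 : Nat.card E8 = 8 := by
  rw [Nat.card_eq_fintype_card]
  decide +kernel

theorem card_torus : Nat.card ((ZMod 5)ˣ × (ZMod 5)ˣ) = 16 := by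
  rw [Nat.card_eq_fintype_card]
  decide +kernel

/-- the unit `s ≠ 0` -/
def uu (s : ZMod 5) (h : s ≠ 0) : (ZMod 5)ˣ := Units.mk0 s h

theorem E8_gen : ∀ x : (ZMod 5)ˣ × (ZMod 5)ˣ, x ∈ E8 →
    ∃ i j : Fin 4, x = (uu 3 (by decide), uu 4 (by decide)) ^ (i : ℕ) * (uu 1 (by decide), uu 4 (by decide)) ^ (j : ℕ) := by
  decide +kernel

theorem torus_gen : ∀ x : (ZMod 5)ˣ × (ZMod 5)ˣ,
    ∃ i j : Fin 4, x = (uu 3 (by decide), uu 4 (by decide)) ^ (i : ℕ) * (uu 4 (by decide), uu 2 (by decide)) ^ (j : ℕ) := by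
  decide +kernel

theorem card_map_torHom (E : Subgroup ((ZMod 5)ˣ × (ZMod 5)ˣ)) : Nat.card (E.map torHom) = Nat.card E :=
  (Nat.card_congr (E.equivMapOfInjective _ torHom_injective).toEquiv).symm

/-- the possible groups `D` -/
theorem D_cases {D : Subgroup (MulAut U5)} (h : ∀ d ∈ D, ∃ s t, IsT d s t)
    (h1 : ∀ α, IsT α 3 4 → α ∈ D) (h2 : ∀ α, IsT α 1 (-1) → α ∈ D) :
    (D = E8.map torHom ∧ Nat.card D = 8) ∨ (D = (⊤ : Subgroup _).map torHom ∧ Nat.card D = 16) := by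
  have hr : D ≤ torHom.range := by
    intro d hd
    obtain ⟨s, t, hst⟩ := h d hd
    exact ⟨_, (eq_torHom hst).symm⟩
  have hD : (D.comap torHom).map torHom = D := Subgroup.map_comap_eq_self hr
  have hc : Nat.card D = Nat.card (D.comap torHom) := by
    rw [← card_map_torHom, hD]
  have a1 : (uu 3 (by decide), uu 4 (by decide)) ∈ D.comap torHom := h1 _ (isT_torHom _)
  have a2 : (uu 1 (by decide), uu 4 (by decide)) ∈ D.comap torHom := h2 _ (isT_torHom _)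
  have hE : E8 ≤ D.comap torHom := by
    intro x hx
    obtain ⟨i, j, hij⟩ := E8_gen x hx
    rw [hij]
    exact Subgroup.mul_mem _ (Subgroup.pow_mem _ a1 _) (Subgroup.pow_mem _ a2 _)
  have d1 : 8 ∣ Nat.card (D.comap torHom) := by
    rw [← card_E8]
    exact Subgroup.card_dvd_of_le hE
  have d2 : Nat.card (D.comap torHom) ∣ 16 := by
    rw [← card_torus]
    exact Subgroup.card_subgroup_dvd_card _
  have d3 : Nat.card (D.comap torHom) = 8 ∨ Nat.card (D.comap torHom) = 16 := by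
    obtain ⟨k, hk⟩ := d1
    rw [hk] at d2 ⊢
    have : k ∣ 2 := by
      obtain ⟨m, hm⟩ := d2
      refine ⟨m, Nat.eq_of_mul_eq_mul_left (by norm_num : 0 < 8) ?_⟩
      rw [← mul_assoc]
      exact hm
    have h2 := (Nat.dvd_prime Nat.prime_two).1 this
    omega
  rcases d3 with d4 | d4
  · left
    refine ⟨?_, hc.trans d4⟩
    have : E8 = D.comap torHom := Subgroup.eq_of_le_of_card_ge hE (by rw [d4, card_E8])
    rw [this, hD]
  · right
    refine ⟨?_, hc.trans d4⟩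
    have : D.comap torHom = ⊤ := Subgroup.eq_top_of_card_eq _ (by rw [d4, card_torus])
    rw [← this, hD]

/-- `D` is the whole torus as soon as it contains `h₁` -/
theorem D_full {D : Subgroup (MulAut U5)} (h : ∀ d ∈ D, ∃ s t, IsT d s t)
    (h1 : ∀ α, IsT α 3 4 → α ∈ D) (h2 : ∀ α, IsT α 1 (-1) → α ∈ D) (h3 : ∀ α, IsT α 4 2 → α ∈ D) :
    D = (⊤ : Subgroup _).map torHom ∧ Nat.card D = 16 := by
  rcases D_cases h h1 h2 with ⟨h4, -⟩ | h4
  · exfalso
    have h5 : torHom (uu 4 (by decide), uu 2 (by decide)) ∈ D := h3 _ (isT_torHom _)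
    rw [h4] at h5
    obtain ⟨x, hx, hxe⟩ := h5
    rw [torHom_injective hxe] at hx
    have hx' : (uu 4 (by decide), uu 2 (by decide)) ∈ E8 := hx
    exact absurd hx' (by decide +kernel)
  · exact h4

/-! ### The diagonal elements of `L` -/

theorem diag_iso : ∀ s t : ZMod 5, s ≠ 0 → t ≠ 0 → (mdg s t).transpose * Om * mdg s t = Om →
    mdg s t = ((1 : M5ˣ) : M5) ∨ mdg s t = ((-1 : M5ˣ) : M5) ∨ mdg s t = (gh1 : M5) ∨ mdg s t = ((gh1 ^ 3 : M5ˣ) : M5) := by
  decide +kernel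

theorem gh1_gA : gh1 * gA * gh1⁻¹ = gA ^ 4 := by decide +kernel

theorem four_card : (({1, -1, gh1, gh1 ^ 3} : Finset M5ˣ)).card = 4 := by decide +kernel

theorem two_card : (({1, -1} : Finset M5ˣ)).card = 2 := by decide +kernel

theorem dg_one : mdg 1 1 = ((1 : M5ˣ) : M5) := by decide +kernel
theorem dg_neg : mdg 1 (-1) = ((-1 : M5ˣ) : M5) := by decide +kernel
theorem dg_h1 : mdg 4 2 = (gh1 : M5) := by decide +kernel
theorem dg_h1' : mdg 4 3 = ((gh1 ^ 3 : M5ˣ) : M5) := by decide +kernel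

section

variable {F : FusionSystem (⊤ : Subgroup U5)} {D : Subgroup (MulAut U5)}

/-- the matrices in `L` which are also in `D` -/
abbrev NL (L : Subgroup M5ˣ) (D : Subgroup (MulAut U5)) : Type :=
  {g : M5ˣ // g ∈ L ∧ ∃ d ∈ D, ∃ s t, IsT d s t ∧ (g : M5) = mdg s t}

theorem NL_four {L : Subgroup M5ˣ} (hL : Hyp L)
    (hD : ∀ s t (α : MulAut U5), IsT α s t → (∃ g ∈ L, (g : M5) = mdg s t) → α ∈ D) (hn : -1 ∈ L) (h1 : gh1 ∈ L) :
    Nat.card (NL L D) = 4 := by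
  have hset : {g : M5ˣ | g ∈ L ∧ ∃ d ∈ D, ∃ s t, IsT d s t ∧ (g : M5) = mdg s t} =
      (({1, -1, gh1, gh1 ^ 3} : Finset M5ˣ) : Set M5ˣ) := by
    ext g
    constructor
    · rintro ⟨hg, d, -, s, t, hst, he⟩
      have h2 := hL.iso g hg
      rw [he] at h2
      rcases diag_iso s t hst.ne1 hst.ne2 h2 with h3 | h3 | h3 | h3 <;> rw [← he] at h3 <;>
        simp only [Finset.coe_insert, Finset.coe_singleton, Set.mem_insert_iff, Set.mem_singleton_iff]
      · exact Or.inl (Units.ext h3)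
      · exact Or.inr (Or.inl (Units.ext h3))
      · exact Or.inr (Or.inr (Or.inl (Units.ext h3)))
      · exact Or.inr (Or.inr (Or.inr (Units.ext h3)))
    · intro hg
      have key : ∀ (x : M5ˣ) (s t : (ZMod 5)ˣ), x ∈ L → mdg s t = (x : M5) →
          x ∈ {g : M5ˣ | g ∈ L ∧ ∃ d ∈ D, ∃ s t, IsT d s t ∧ (g : M5) = mdg s t} := by
        intro x s t hx he
        exact ⟨hx, torHom (s, t), hD _ _ _ (isT_torHom (s, t)) ⟨x, hx, he.symm⟩, s, t, isT_torHom (s, t), he.symm⟩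
      simp only [Finset.coe_insert, Finset.coe_singleton, Set.mem_insert_iff, Set.mem_singleton_iff] at hg
      rcases hg with rfl | rfl | rfl | rfl
      · exact key _ (uu 1 (by decide)) (uu 1 (by decide)) L.one_mem dg_one
      · exact key _ (uu 1 (by decide)) (uu (-1) (by decide)) hn dg_neg
      · exact key _ (uu 4 (by decide)) (uu 2 (by decide)) h1 dg_h1
      · exact key _ (uu 4 (by decide)) (uu 3 (by decide)) (L.pow_mem h1 3) dg_h1'
  show Nat.card {g : M5ˣ | g ∈ L ∧ ∃ d ∈ D, ∃ s t, IsT d s t ∧ (g : M5) = mdg s t} = 4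
  rw [hset, Nat.card_coe_set_eq, Set.ncard_coe_finset, four_card]

theorem NL_two {L : Subgroup M5ˣ} (hL : Hyp L)
    (hD : ∀ s t (α : MulAut U5), IsT α s t → (∃ g ∈ L, (g : M5) = mdg s t) → α ∈ D) (hn : -1 ∈ L) (h1 : gh1 ∉ L) :
    Nat.card (NL L D) = 2 := by
  have h1' : gh1 ^ 3 ∉ L := by
    intro h
    apply h1
    have h2 : (gh1 ^ 3) ^ 3 = gh1 := by decide +kernel
    rw [← h2]
    exact L.pow_mem h 3
  have hset : {g : M5ˣ | g ∈ L ∧ ∃ d ∈ D, ∃ s t, IsT d s t ∧ (g : M5) = mdg s t} =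
      (({1, -1} : Finset M5ˣ) : Set M5ˣ) := by
    ext g
    constructor
    · rintro ⟨hg, d, -, s, t, hst, he⟩
      have h2 := hL.iso g hg
      rw [he] at h2
      rcases diag_iso s t hst.ne1 hst.ne2 h2 with h3 | h3 | h3 | h3 <;> rw [← he] at h3 <;>
        simp only [Finset.coe_insert, Finset.coe_singleton, Set.mem_insert_iff, Set.mem_singleton_iff]
      · exact Or.inl (Units.ext h3)
      · exact Or.inr (Units.ext h3)
      · exact absurd (Units.ext h3 ▸ hg) h1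
      · exact absurd (Units.ext h3 ▸ hg) h1'
    · intro hg
      have key : ∀ (x : M5ˣ) (s t : (ZMod 5)ˣ), x ∈ L → mdg s t = (x : M5) →
          x ∈ {g : M5ˣ | g ∈ L ∧ ∃ d ∈ D, ∃ s t, IsT d s t ∧ (g : M5) = mdg s t} := by
        intro x s t hx he
        exact ⟨hx, torHom (s, t), hD _ _ _ (isT_torHom (s, t)) ⟨x, hx, he.symm⟩, s, t, isT_torHom (s, t), he.symm⟩
      simp only [Finset.coe_insert, Finset.coe_singleton, Set.mem_insert_iff, Set.mem_singleton_iff] at hg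
      rcases hg with rfl | rfl
      · exact key _ (uu 1 (by decide)) (uu 1 (by decide)) L.one_mem dg_one
      · exact key _ (uu 1 (by decide)) (uu (-1) (by decide)) hn dg_neg
  show Nat.card {g : M5ˣ | g ∈ L ∧ ∃ d ∈ D, ∃ s t, IsT d s t ∧ (g : M5) = mdg s t} = 2
  rw [hset, Nat.card_coe_set_eq, Set.ncard_coe_finset, two_card]

/-- `h₁` is not in the group of order `160` -/
theorem gh1_not_mem {L : Subgroup M5ˣ} (hL : Hyp L) (hc : Nat.card L = 160)
    (h3 : ∃ R : Subgroup M5ˣ, R ≤ L ∧ (∀ g ∈ L, ∀ r ∈ R, g * r * g⁻¹ ∈ R) ∧ Nat.card R = 32) : gh1 ∉ L := by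
  intro h1
  obtain ⟨R, hR, hRn, hRc⟩ := h3
  have hn : (R.subgroupOf L).Normal := by
    constructor
    intro r hr g
    rw [Subgroup.mem_subgroupOf] at hr ⊢
    exact hRn g g.2 r hr
  have hi : (R.subgroupOf L).index = 5 := by
    have h2 := Subgroup.relIndex_mul_relIndex ⊥ R L bot_le hR
    rw [Subgroup.relIndex_bot_left, Subgroup.relIndex_bot_left, hRc, hc] at h2
    show R.relIndex L = 5
    omega
  have hcard : Nat.card (L ⧸ R.subgroupOf L) = 5 := hi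
  have hcyc : IsCyclic (L ⧸ R.subgroupOf L) := isCyclic_of_prime_card hcard
  have hcomm := hcyc.isMulCommutative
  let x : L := ⟨gh1, h1⟩
  let y : L := ⟨gA, hL.memA⟩
  have h4 : (QuotientGroup.mk x : L ⧸ R.subgroupOf L) * QuotientGroup.mk y =
      QuotientGroup.mk y * QuotientGroup.mk x := hcomm.is_comm.comm _ _
  rw [← QuotientGroup.mk_mul, ← QuotientGroup.mk_mul, QuotientGroup.eq] at h4
  have h5 : (x * y)⁻¹ * (y * x) ∈ R.subgroupOf L := h4
  rw [Subgroup.mem_subgroupOf] at h5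
  have h6 : (((x * y)⁻¹ * (y * x) : L) : M5ˣ) = (gh1 * gA)⁻¹ * (gA * gh1) := rfl
  rw [h6] at h5
  -- the element `[h₁, gA]` has order `5`
  have h7 : ((gh1 * gA)⁻¹ * (gA * gh1)) ^ 5 = 1 := by decide +kernel
  have h8 : (gh1 * gA)⁻¹ * (gA * gh1) ≠ 1 := by decide +kernel
  have h9 : orderOf ((gh1 * gA)⁻¹ * (gA * gh1)) = 5 := orderOf_eq_prime h7 h8
  have h10 := orderOf_dvd_natCard (⟨_, h5⟩ : R)
  rw [← Subgroup.orderOf_coe] at h10
  have h11 : orderOf ((gh1 * gA)⁻¹ * (gA * gh1)) ∣ Nat.card R := h10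
  rw [h9, hRc] at h11
  omega

/-- the five cases -/
theorem five_cases (hM : StM) (hM3 : StM3) (hM6 : StM6) (hF2 : StF2) (hF3 : StF3) (hLb : StLb5) (h : Good F D) :
    (D = E8.map torHom ∨ D = (⊤ : Subgroup _).map torHom) ∧ (∀ α, IsT α 1 (-1) → α ∈ D) ∧
    ((LG (F.autGroup A5) = LS ∧ Nat.card D = 16 ∧ Nat.card (F.autGroup A5) = 625 * 480) ∨
    (LG (F.autGroup A5) = LR ∧ Nat.card D = 8 ∧ Nat.card (F.autGroup A5) = 625 * 640) ∨
    (LG (F.autGroup A5) = LR ∧ Nat.card D = 16 ∧ Nat.card (F.autGroup A5) = 625 * 1280) ∨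
    (LG (F.autGroup A5) = LC ∧ Nat.card D = 16 ∧ Nat.card (F.autGroup A5) = 625 * 2880) ∨
    (LG (F.autGroup A5) = LB ∧ Nat.card D = 16 ∧ Nat.card (F.autGroup A5) = 625 * 7680)) := by
  obtain ⟨htor, -⟩ := hLb _ D h.parB
  have hL := hF2 _ D h.parA htor h.z2 h.z3
  obtain ⟨f1, f2, -, f4⟩ := hF3 _ D h.parA
  obtain ⟨-, ⟨nS, nR, nC, nB, -⟩, oS, oC, oB, -⟩ := hM6
  have hn : -1 ∈ LG (F.autGroup A5) := by
    rcases hM _ hL with h1 | h1 | h1 | h1 <;> rw [h1.2]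
    · exact nS
    · exact nR
    · exact nC
    · exact nB
  have hneg : ∀ α, IsT α 1 (-1) → α ∈ D := fun α hα => f2 1 (-1) α hα ⟨-1, hn, dg_neg.symm⟩
  have hh2 : ∀ α, IsT α 3 4 → α ∈ D := by
    intro α hα
    refine htor 2 (by decide) α ?_
    have e1 : (2 : ZMod 5)⁻¹ = 3 := by decide +kernel
    have e2 : (2 : ZMod 5) ^ 2 = 4 := by decide +kernel
    show IsTor α (2 : ZMod 5)⁻¹ ((2 : ZMod 5) ^ 2) (RingEquiv.refl _)
    rw [e1, e2]
    exact hα
  have hcases := D_cases f1 hh2 hneg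
  refine ⟨hcases.imp (fun h => h.1) (fun h => h.1), hneg, ?_⟩
  have full : gh1 ∈ LG (F.autGroup A5) → Nat.card D = 16 := fun h1 =>
    (D_full f1 hh2 hneg (fun α hα => f2 4 2 α hα ⟨gh1, h1, dg_h1.symm⟩)).2
  have big : gh1 ∈ LG (F.autGroup A5) → Nat.card (F.autGroup A5) * 4 = 625 * Nat.card (LG (F.autGroup A5)) * 16 := by
    intro h1
    rw [← full h1, ← f4, NL_four hL f2 hn h1]
  rcases hM _ hL with ⟨c1, c2⟩ | ⟨c1, c2⟩ | ⟨c1, c2⟩ | ⟨c1, c2⟩
  · left
    have h1 : gh1 ∈ LG (F.autGroup A5) := c2 ▸ oS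
    refine ⟨c2, full h1, ?_⟩
    have := big h1
    rw [c1] at this
    omega
  · have h3 : ∃ R : Subgroup M5ˣ, R ≤ LG (F.autGroup A5) ∧ (∀ g ∈ LG (F.autGroup A5), ∀ r ∈ R, g * r * g⁻¹ ∈ R) ∧
        Nat.card R = 32 := by
      rcases hM3 _ hL hn with ⟨R, r1, r2, r3, -⟩ | h3 | h3
      · exact ⟨R, r1, r2, r3⟩
      · omega
      · omega
    have h5 : Nat.card (F.autGroup A5) * 2 = 625 * Nat.card (LG (F.autGroup A5)) * Nat.card D := by
      rw [← f4, NL_two hL f2 hn (gh1_not_mem hL c1 h3)]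
    rw [c1] at h5
    rcases hcases with ⟨-, h6⟩ | ⟨-, h6⟩
    · right; left
      refine ⟨c2, h6, ?_⟩
      rw [h6] at h5
      omega
    · right; right; left
      refine ⟨c2, h6, ?_⟩
      rw [h6] at h5
      omega
  · right; right; right; left
    have h1 : gh1 ∈ LG (F.autGroup A5) := c2 ▸ oC
    refine ⟨c2, full h1, ?_⟩
    have := big h1
    rw [c1] at this
    omega
  · right; right; right; right
    have h1 : gh1 ∈ LG (F.autGroup A5) := c2 ▸ oB
    refine ⟨c2, full h1, ?_⟩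
    have := big h1
    rw [c1] at this
    omega

end

/-- (V) -/
theorem stFive (hM : StM) (hM3 : StM3) (hM6 : StM6) (hF2 : StF2) (hF3 : StF3) (hLb : StLb5) : StFive := by
  intro F D h
  obtain ⟨-, -, h1⟩ := five_cases hM hM3 hM6 hF2 hF3 hLb h
  simp only [Set.mem_insert_iff, Set.mem_singleton_iff]
  omega

/-- (U) -/
theorem stUniq (hM : StM) (hM3 : StM3) (hM6 : StM6) (hF2 : StF2) (hF3 : StF3) (hLb : StLb5) (hG : StGrp.{0})
    (hS : StSame.{0}) : StUniq := by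
  intro F F' D D' h h' hc
  obtain ⟨a1, a2, a3⟩ := five_cases hM hM3 hM6 hF2 hF3 hLb h
  obtain ⟨b1, b2, b3⟩ := five_cases hM hM3 hM6 hF2 hF3 hLb h'
  have hboth : LG (F.autGroup A5) = LG (F'.autGroup A5) ∧ Nat.card D = Nat.card D' := by
    rcases a3 with ⟨x1, x2, x3⟩ | ⟨x1, x2, x3⟩ | ⟨x1, x2, x3⟩ | ⟨x1, x2, x3⟩ | ⟨x1, x2, x3⟩ <;>
      rcases b3 with ⟨y1, y2, y3⟩ | ⟨y1, y2, y3⟩ | ⟨y1, y2, y3⟩ | ⟨y1, y2, y3⟩ | ⟨y1, y2, y3⟩ <;>
      first
      | exact ⟨x1.trans y1.symm, x2.trans y2.symm⟩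
      | (exfalso; omega)
  obtain ⟨hLL, hDc⟩ := hboth
  have e8 : Nat.card (E8.map torHom) = 8 := by rw [card_map_torHom, card_E8]
  have e16 : Nat.card ((⊤ : Subgroup ((ZMod 5)ˣ × (ZMod 5)ˣ)).map torHom) = 16 := by
    rw [card_map_torHom, Nat.card_congr Subgroup.topEquiv.toEquiv, card_torus]
  have hDD : D = D' := by
    rcases a1 with x | x <;> rcases b1 with y | y
    · rw [x, y]
    · rw [x, y, e8, e16] at hDc
      omega
    · rw [x, y, e8, e16] at hDc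
      omega
    · rw [x, y]
  subst hDD
  refine hS F F' A5 B5 (hG hypG5).2.1 h.sat h'.sat le_top le_top h.ess h'.ess (autGroup_top_eq_of_AF (h.af.trans h'.af.symm))
    ?_ ?_
  · ext γ
    rw [(hF3 _ D h.parA).2.2.1 γ, (hF3 _ D h'.parA).2.2.1 γ, hLL]
  · rw [(hLb _ D h.parB).2 a2, (hLb _ D h'.parB).2 a2]

end Cfsg.Agent.H772.G2
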