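import Cfsg.Agent.H772.G2.Push5
import Cfsg.Agent.H772.G2.Uniq5
import Cfsg.Agent.H772.G2.RowSys

/-!
# S5211, block `q = 5`: the assembly
-/

set_option autoImplicit false

namespace Cfsg.Agent.H772.G2

open Cfsg Cfsg.FusionSystem Cfsg.Agent.H756.PU Cfsg.Agent.H779.G2 Cfsg.Agent.H24.Q5

universe u

/-- a row gives a good realizable system with a given order of `Aut_F(Q_a)` -/
theorem pick (hGood : StGood) (hFive : StFive) {P : ℕ → Prop} {v : ℕ} (hrow : Row P)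
    (hP : ∀ n : ℕ, n ∈ ({625 * 480, 625 * 640, 625 * 1280, 625 * 2880, 625 * 7680} : Set ℕ) → P n → n = v) :
    ∃ (F : FusionSystem (⊤ : Subgroup U5)) (D : Subgroup (MulAut U5)), Good F D ∧ F.IsRealizable 5 ∧
      Nat.card (F.autGroup A5) = v := by
  obtain ⟨G, _, _, T, e, hL, hn⟩ := hrow
  obtain ⟨F, h1, h2, h3, h4⟩ := stRowSys G T e hL
  obtain ⟨F', D, h5, h6, h7⟩ := hGood F h1 h3
  refine ⟨F', D, h5, h6.2 h2, hP _ (hFive F' D h5) ?_⟩
  rw [h7, h4]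
  exact hn

/-- the case `q = 5` over `ZMod 5` -/
theorem stMain5Z (hGood : StGood) (hFive : StFive) (hUniq : StUniq) (r1 : StRowG2) (r2 : StRowHN) (r3 : StRowHN2)
    (r4 : StRowLy) (r5 : StRowB) : StMain5Z := by
  intro F hF hc
  obtain ⟨F', D, h5, h6, -⟩ := hGood F hF hc
  rw [← h6]
  have fin : ∀ v : ℕ, Nat.card (F'.autGroup A5) = v → (∃ (F1 : FusionSystem (⊤ : Subgroup U5)) (D : Subgroup (MulAut U5)),
      Good F1 D ∧ F1.IsRealizable 5 ∧ Nat.card (F1.autGroup A5) = v) → F'.IsRealizable 5 := by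
    rintro v hv ⟨F1, D1, g1, g2, g3⟩
    have h7 := hUniq F' F1 D D1 h5 g1 (hv.trans g3.symm)
    rw [H802.fusionSystem_ext h7]
    exact g2
  have h8 := hFive F' D h5
  rcases h8 with h8 | h8 | h8 | h8 | h8
  · refine fin _ h8 (pick hGood hFive r1 ?_)
    rintro n (rfl | rfl | rfl | rfl | rfl) ⟨a1, a2, a3⟩ <;> first | rfl | (exfalso; omega)
  · refine fin _ h8 (pick hGood hFive r2 ?_)
    rintro n (rfl | rfl | rfl | rfl | rfl) ⟨a1, a2⟩ <;> first | rfl | (exfalso; omega)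
  · refine fin _ h8 (pick hGood hFive r3 ?_)
    rintro n (rfl | rfl | rfl | rfl | rfl) ⟨a1, a2⟩ <;> first | rfl | (exfalso; omega)
  · refine fin _ h8 (pick hGood hFive r4 ?_)
    rintro n (rfl | rfl | rfl | rfl | rfl) a1 <;> first | rfl | (exfalso; omega)
  · refine fin _ h8 (pick hGood hFive r5 ?_)
    rintro n (rfl | rfl | rfl | rfl | rfl) ⟨a1, a2⟩ <;> first | rfl | (exfalso; omega)

/-- the case `q = 5` -/
theorem stMain5 (hGood : StGood) (hM : StM) (hM3 : StM3) (hM6 : StM6) (hF2 : StF2) (hF3 : StF3) (hLb : StLb5)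
    (hG : StGrp.{0}) (hS : StSame.{0}) (r1 : StRowG2) (r2 : StRowHN) (r3 : StRowHN2)
    (r4 : StRowLy) (r5 : StRowB) : StMain5.{u} :=
  stPush5 (stMain5Z hGood (stFive hM hM3 hM6 hF2 hF3 hLb) (stUniq hM hM3 hM6 hF2 hF3 hLb hG hS) r1 r2 r3 r4 r5)

end Cfsg.Agent.H772.G2
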