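import Cfsg.Agent.H24.Q5.Fus
import Cfsg.Agent.H805.PU.Main

/-!
# S5211: transport of core-free systems; the block `q = 5` over `ZMod 5`
-/

set_option autoImplicit false

namespace Cfsg.Agent.H772.G2

open Cfsg Cfsg.FusionSystem Cfsg.Agent.H759 Cfsg.Agent.H756.PU Cfsg.Agent.H779.G2 Cfsg.Agent.H24.Q5

universe u v

theorem core_eq_bot_of_push {Ω₁ Ω₂ : Type*} [Group Ω₁] [Group Ω₂] {f : Ω₁ →* Ω₂} {hf : Function.Injective f}
    {T₁ : Subgroup Ω₁} {T₂ : Subgroup Ω₂} {X₁ : FusionSystem T₁} {X₂ : FusionSystem T₂} (h : IsPush hf X₁ X₂) :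
    X₂.core = ⊥ ↔ X₁.core = ⊥ := by
  rw [h.core_eq]
  constructor
  · intro h1
    rw [eq_bot_iff]
    intro x hx
    have h2 : f x ∈ X₁.core.map f := ⟨x, hx, rfl⟩
    rw [h1, Subgroup.mem_bot] at h2
    exact hf (h2.trans (map_one f).symm)
  · intro h1
    rw [h1, Subgroup.map_bot]

/-- (G11) with the core -/
def StTransC : Prop :=
  ∀ {Ω : Type u} [Group Ω] {S : Subgroup Ω} [Finite S] {p : ℕ} [Fact p.Prime] (F : FusionSystem S)
    {G0 : Type v} [Group G0] (_ : S ≃* G0), F.IsSaturated p →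
    ∃ F' : FusionSystem (⊤ : Subgroup G0), F'.IsSaturated p ∧ (F'.IsRealizable p → F.IsRealizable p) ∧
      (F.core = ⊥ → F'.core = ⊥)

/-- (G11) with the core -/
theorem stTransC : StTransC.{u, v} := by
  intro Ω _ S _ p _ F G0 _ e hF
  let f : G0 →* Ω := S.subtype.comp e.symm.toMonoidHom
  have hf : Function.Injective f := (Subgroup.subtype_injective S).comp e.symm.injective
  have hS : S = (⊤ : Subgroup G0).map f := by
    ext x
    constructor
    · intro hx
      refine ⟨e ⟨x, hx⟩, Subgroup.mem_top _, ?_⟩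
      show ((e.symm (e ⟨x, hx⟩) : S) : Ω) = x
      rw [e.symm_apply_apply]
    · rintro ⟨y, -, rfl⟩
      exact (e.symm y).2
  have : Finite G0 := Finite.of_equiv _ e.toEquiv
  obtain ⟨F', hF'⟩ := exists_pull' (hf := hf) hS F
  exact ⟨F', hF'.isSaturated_iff.1 hF, H776.Co.isRealizable_push hF', (core_eq_bot_of_push hF').1⟩

/-- a ring isomorphism induces an isomorphism of the groups of type `G₂` -/
def guEquiv {K : Type u} {L : Type v} [Field K] [Field L] (σ : K ≃+* L) : GU K ≃* GU L where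
  toFun g := ⟨σ g.a, σ g.b, σ g.c, σ g.d, σ g.e, σ g.f⟩
  invFun g := ⟨σ.symm g.a, σ.symm g.b, σ.symm g.c, σ.symm g.d, σ.symm g.e, σ.symm g.f⟩
  left_inv g := by ext <;> simp
  right_inv g := by ext <;> simp
  map_mul' x y := by
    have h2 : σ 2 = 2 := map_ofNat σ 2
    have h3 : σ 3 = 3 := map_ofNat σ 3
    have h6 : σ 6 = 6 := map_ofNat σ 6
    ext <;> simp [h2, h3, h6]

/-- (PUSH) -/
theorem stPush5 : StPush5.{u} := by
  intro hZ K _ p n _ hK hpn F hF hc
  obtain ⟨rfl, rfl⟩ := hpn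
  have := hK.fin
  have hft := Fintype.ofFinite K
  have hcard : Fintype.card K = 5 := by
    rw [← Nat.card_eq_fintype_card, hK.card, pow_one]
  let σ : K ≃+* ZMod 5 := (ZMod.ringEquivOfPrime K (by norm_num) hcard).symm
  obtain ⟨F', h1, h2, h3⟩ := stTransC F (Subgroup.topEquiv.trans (guEquiv σ)) hF
  exact h2 (hZ F' h1 (h3 hc))

end Cfsg.Agent.H772.G2
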